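import Groth.Agent.AlgStLib.Noetherian
import Groth.Agent.ArInt.ModelLib
import Groth.Agent.ArInt.FiniteNormal
import Groth.Agent.ArInt.VertPic
import Groth.Agent.CDiv6.Normal
import Groth.Agent.DimFormula.Criteria
import Groth.Agent.FlatMisc.ValuationDim
import Groth.Agent.H23.P1Graph
import Groth.Agent.NeronIsog.PtsExt
import Groth.Agent.NormUnib.Basic
import Mathlib.AlgebraicGeometry.ZariskisMainTheorem

/-!
# Morphisms between normal models of curves
-/

set_option autoImplicit false
set_option linter.style.haveILetI false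
set_option linter.unusedSectionVars false
set_option backward.isDefEq.respectTransparency false
set_option backward.isDefEq.respectTransparency.types false
set_option maxHeartbeats 1000000

universe u

open CategoryTheory CategoryTheory.Limits AlgebraicGeometry TopologicalSpace

namespace Groth.Agent.ModelMor

/-- A morphism with a dominant section over an open is an isomorphism over it. -/
theorem isIso_restrict_of_section {C Z X : Scheme.{u}} [IsReduced Z] (i : C ⟶ X) [IsOpenImmersion i]
    (p : Z ⟶ X) [IsSeparated p] (t : C ⟶ Z) [IsDominant t] (h : t ≫ p = i) :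
    IsIso (p ∣_ i.opensRange) := by
  let O := p ⁻¹ᵁ i.opensRange
  have hr : Set.range t ⊆ Set.range O.ι := by
    rintro _ ⟨y, rfl⟩
    rw [Scheme.Opens.range_ι]
    exact ⟨y, by rw [← h]; rfl⟩
  let sec : C ⟶ O.toScheme := IsOpenImmersion.lift O.ι t hr
  have hsec : sec ≫ O.ι = t := IsOpenImmersion.lift_fac _ _ _
  have hcomp : sec ≫ (p ∣_ i.opensRange) = i.isoOpensRange.hom := by
    rw [← cancel_mono i.opensRange.ι, Category.assoc, morphismRestrict_ι, ← Category.assoc, hsec, h,
      Scheme.Hom.isoOpensRange_hom_ι]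
  haveI : IsSeparated (p ∣_ i.opensRange) :=
    MorphismProperty.of_isPullback (isPullback_morphismRestrict p i.opensRange).flip inferInstance
  haveI : IsClosedImmersion (sec ≫ (p ∣_ i.opensRange)) := by rw [hcomp]; infer_instance
  haveI : IsClosedImmersion sec := IsClosedImmersion.of_comp sec (p ∣_ i.opensRange)
  haveI : Surjective sec := by
    refine ⟨Set.range_eq_univ.mp (Set.eq_univ_of_forall fun z => ?_)⟩
    rw [← sec.isClosedEmbedding.isClosed_range.closure_eq, O.ι.isOpenEmbedding.isEmbedding.closure_eq_preimage_closure_image]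
    show O.ι z ∈ closure (O.ι '' Set.range sec)
    rw [← Set.range_comp]
    have : (O.ι : _ → Z) ∘ sec = t := by rw [← hsec]; rfl
    rw [this, t.denseRange.closure_range]
    trivial
  haveI : IsIso sec := isIso_of_isClosedImmersion_of_surjective sec
  have : p ∣_ i.opensRange = inv sec ≫ i.isoOpensRange.hom := by rw [← hcomp, IsIso.inv_hom_id_assoc]
  rw [this]
  infer_instance

/-- The local rings of an integral scheme inject into the local ring at the generic point. -/
theorem specializes_injective {X : Scheme.{u}} [IsIntegral X] {g : X} (hg : g = genericPoint X) {x : X}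
    (hs : g ⤳ x) : Function.Injective (X.presheaf.stalkSpecializes hs) := by
  subst hg
  exact IsFractionRing.injective (X.presheaf.stalk x) X.functionField

theorem isDominant_specializes {X : Scheme.{u}} [IsIntegral X] {g : X} (hg : g = genericPoint X) {x : X}
    (hs : g ⤳ x) : IsDominant (Spec.map (X.presheaf.stalkSpecializes hs)) := by
  refine ⟨(PrimeSpectrum.denseRange_comap_iff_ker_le_nilRadical _).2 ?_⟩
  rw [(RingHom.injective_iff_ker_eq_bot _).1 (specializes_injective hg hs)]
  exact bot_le

/-- A point over a valuation ring of the function field lifts to the spectrum of the valuation ring. -/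
theorem exists_lift {X P : Scheme.{u}} [IsIntegral X] (p : P ⟶ X) (γ : P)
    (hv : ValuationRing (X.presheaf.stalk (p γ))) {g : X} (hg : g = genericPoint X) (hs : g ⤳ p γ)
    (c : Spec (X.presheaf.stalk g) ⟶ P) (hc : c ≫ p = X.fromSpecStalk g)
    (hγ : c (IsLocalRing.closedPoint _) ⤳ γ) :
    ∃ χ : Spec (X.presheaf.stalk (p γ)) ⟶ P, χ ≫ p = X.fromSpecStalk (p γ) ∧
      χ (IsLocalRing.closedPoint _) = γ ∧ Spec.map (X.presheaf.stalkSpecializes hs) ≫ χ = c := by
  subst hg
  haveI := hv
  let ρ : P.presheaf.stalk γ ⟶ X.presheaf.stalk (genericPoint X) :=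
    P.presheaf.stalkSpecializes hγ ≫ Scheme.stalkClosedPointTo c
  have hρ : Spec.map ρ ≫ P.fromSpecStalk γ = c := by
    rw [Spec.map_comp, Category.assoc, Scheme.SpecMap_stalkSpecializes_fromSpecStalk,
      Scheme.Spec_stalkClosedPointTo_fromSpecStalk]
  have hαρ : p.stalkMap γ ≫ ρ = X.presheaf.stalkSpecializes hs := by
    apply Spec.map_injective
    rw [← cancel_mono (X.fromSpecStalk (p γ)), Spec.map_comp, Category.assoc,
      Scheme.SpecMap_stalkMap_fromSpecStalk, reassoc_of% hρ, hc, Scheme.SpecMap_stalkSpecializes_fromSpecStalk]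
  let O := X.presheaf.stalk (p γ)
  let K := X.presheaf.stalk (genericPoint X)
  letI : Field K := inferInstanceAs (Field X.functionField)
  letI : Algebra O K := (X.presheaf.stalkSpecializes hs).hom.toAlgebra
  haveI : IsFractionRing O K := inferInstanceAs (IsFractionRing (X.presheaf.stalk (p γ)) X.functionField)
  have hα : ∀ o : O, ρ (p.stalkMap γ o) = algebraMap O K o := fun o => by
    rw [← CommRingCat.comp_apply, hαρ]
    rfl
  have hint : ∀ b : P.presheaf.stalk γ, ρ b ∈ (algebraMap O K).range := by
    intro b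
    by_contra hnb
    rcases ValuationRing.isInteger_or_isInteger O (K := K) (ρ b) with h | h
    · exact hnb h
    obtain ⟨a, ha⟩ := h
    by_cases hu : IsUnit a
    · refine hnb ⟨(hu.unit⁻¹ : Oˣ), ?_⟩
      rw [map_units_inv, IsUnit.unit_spec, ha, inv_inv]
    have hb0 : ρ b ≠ 0 := fun h0 => by
      have h1 : ρ b ∈ (algebraMap O K).range := ⟨0, by rw [h0, map_zero]⟩
      exact hnb h1
    have hm : ¬ IsUnit (b * p.stalkMap γ a) := fun h => hu
      ((isUnit_map_iff (p.stalkMap γ).hom a).1 (isUnit_of_mul_isUnit_right h))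
    have h1 : IsUnit (1 - b * p.stalkMap γ a) :=
      (IsLocalRing.isUnit_or_isUnit_of_add_one (add_sub_cancel (b * p.stalkMap γ a) 1)).resolve_left hm
    have h2 := h1.map ρ.hom
    rw [map_sub, map_one, map_mul, hα, ha, mul_inv_cancel₀ hb0, sub_self] at h2
    exact not_isUnit_zero h2
  choose f hf using fun b => RingHom.mem_range.1 (hint b)
  have hinj := IsFractionRing.injective O K
  let G : P.presheaf.stalk γ ⟶ O := CommRingCat.ofHom
    { toFun := f
      map_one' := hinj (by rw [hf, map_one, map_one])
      map_mul' := fun x y => hinj (by rw [hf, map_mul, map_mul, hf, hf])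
      map_zero' := hinj (by rw [hf, map_zero, map_zero])
      map_add' := fun x y => hinj (by rw [hf, map_add, map_add, hf, hf]) }
  have hG : G ≫ X.presheaf.stalkSpecializes hs = ρ := by
    ext b; exact hf b
  have hpG : ∀ o : O, G (p.stalkMap γ o) = o := fun o => hinj ((hf _).trans (hα o))
  haveI : IsLocalHom G.hom := by
    refine ⟨fun b hb => ?_⟩
    by_contra hbu
    have h1 : IsUnit (p.stalkMap γ (G b)) := hb.map (p.stalkMap γ).hom
    have h2 : IsUnit (p.stalkMap γ (G b) - b) := by
      by_contra hnu
      exact IsLocalRing.notMem_maximalIdeal.2 h1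
        (by simpa using (IsLocalRing.maximalIdeal _).add_mem hnu hbu)
    have h3 := h2.map G.hom
    rw [map_sub, hpG, sub_self] at h3
    exact not_isUnit_zero h3
  refine ⟨Spec.map G ≫ P.fromSpecStalk γ, ?_, ?_, ?_⟩
  · rw [Category.assoc, ← Scheme.SpecMap_stalkMap_fromSpecStalk, ← Category.assoc, ← Spec.map_comp,
      show p.stalkMap γ ≫ G = 𝟙 O from CommRingCat.hom_ext (RingHom.ext hpG), Spec.map_id, Category.id_comp]
  · rw [Scheme.Hom.comp_apply,
      show Spec.map G (IsLocalRing.closedPoint O) = IsLocalRing.closedPoint (P.presheaf.stalk γ) from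
        IsLocalRing.comap_closedPoint G.hom, Scheme.fromSpecStalk_closedPoint]
  · rw [← Category.assoc, ← Spec.map_comp, hG, hρ]

section Lift

variable {C Z W : Scheme.{u}} [IsIntegral C] [IsIntegral Z] [IsIntegral W] (t : C ⟶ Z) [IsDominant t]
  (q : Z ⟶ W) [IsSeparated q] (i : C ⟶ W) [IsOpenImmersion i]

/-- The generic point of `Z`, seen from the local ring of `W` at its generic point. -/
noncomputable def genArrow : Spec (W.presheaf.stalk (i (genericPoint C))) ⟶ Z :=
  Spec.map (inv (i.stalkMap (genericPoint C))) ≫ C.fromSpecStalk (genericPoint C) ≫ t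

theorem stalkMap_genArrow :
    Spec.map (i.stalkMap (genericPoint C)) ≫ genArrow t i = C.fromSpecStalk (genericPoint C) ≫ t := by
  rw [genArrow, ← Category.assoc, ← Spec.map_comp, IsIso.inv_hom_id, Spec.map_id, Category.id_comp]

theorem gen_specializes (w : W) : i (genericPoint C) ⤳ w := by
  rw [genericPoint_eq_of_isOpenImmersion i]
  exact genericPoint_specializes w

theorem exists_lift_generic (h : t ≫ q = i) (γ : Z) (hv : ValuationRing (W.presheaf.stalk (q γ))) :
    ∃ χ : Spec (W.presheaf.stalk (q γ)) ⟶ Z, χ ≫ q = W.fromSpecStalk (q γ) ∧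
      χ (IsLocalRing.closedPoint _) = γ ∧
      Spec.map (W.presheaf.stalkSpecializes (gen_specializes i (q γ))) ≫ χ = genArrow t i := by
  refine exists_lift q γ hv (genericPoint_eq_of_isOpenImmersion i) (gen_specializes i (q γ)) _ ?_ ?_
  · rw [genArrow, Category.assoc, Category.assoc, h, ← Scheme.SpecMap_stalkMap_fromSpecStalk,
      ← Category.assoc, ← Spec.map_comp, IsIso.hom_inv_id, Spec.map_id, Category.id_comp]
  · let y := Spec.map (inv (i.stalkMap (genericPoint C))) (IsLocalRing.closedPoint _)
    have h1 : C.fromSpecStalk (genericPoint C) y ⤳ genericPoint C := by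
      have : C.fromSpecStalk (genericPoint C) y ∈ Set.range (C.fromSpecStalk (genericPoint C)) := ⟨y, rfl⟩
      rwa [Scheme.range_fromSpecStalk] at this
    have h2 : t (genericPoint C) = genericPoint Z := by
      refine ((genericPoint_spec C).image t.continuous).eq ?_
      rw [Set.image_univ, t.denseRange.closure_range]
      exact genericPoint_spec Z
    exact (h1.map t.continuous).trans (h2 ▸ genericPoint_specializes γ)

theorem eq_of_valuationRing (h : t ≫ q = i) (w : W) (hv : ValuationRing (W.presheaf.stalk w)) {γ γ' : Z}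
    (hγ : q γ = w) (hγ' : q γ' = w) : γ = γ' := by
  subst hγ
  obtain ⟨χ, h1, h2, h3⟩ := exists_lift_generic t q i h γ hv
  have aux : ∀ w' : W, w' = q γ → ∀ (δ : Z) (χ' : Spec (W.presheaf.stalk w') ⟶ Z),
      χ' ≫ q = W.fromSpecStalk w' → χ' (IsLocalRing.closedPoint _) = δ →
      Spec.map (W.presheaf.stalkSpecializes (gen_specializes i w')) ≫ χ' = genArrow t i → δ = γ := by
    rintro _ rfl δ χ' h1' h2' h3'
    haveI := isDominant_specializes (genericPoint_eq_of_isOpenImmersion i) (gen_specializes i (q γ))
    have : χ' = χ := ext_of_isDominant_of_isSeparated q (h1'.trans h1.symm)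
      (Spec.map (W.presheaf.stalkSpecializes (gen_specializes i (q γ)))) (h3'.trans h3.symm)
    rw [← h2', this, h2]
  obtain ⟨χ', h1', h2', h3'⟩ := exists_lift_generic t q i h γ' (by rw [hγ']; exact hv)
  exact (aux _ hγ' γ' χ' h1' h2' h3').symm

end Lift

/-- A closed set of closed points in a noetherian sober space is finite. -/
theorem finite_of_closed_points {X : Type u} [TopologicalSpace X] [NoetherianSpace X] [QuasiSober X] [T0Space X]
    {K : Set X} (hK : IsClosed K) (h : ∀ x ∈ K, IsClosed ({x} : Set X)) : K.Finite := by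
  have hc : ∀ Z ∈ irreducibleComponents K, (Subtype.val '' Z).Subsingleton := by
    intro Z hZ
    obtain ⟨g, hg⟩ := QuasiSober.sober ((hZ.1.image _ continuous_subtype_val.continuousOn).closure) isClosed_closure
    have hgK : g ∈ K := closure_minimal (by rintro _ ⟨w, -, rfl⟩; exact w.2) hK hg.mem
    intro a ha b hb
    have key : ∀ a ∈ Subtype.val '' Z, a = g := fun a ha => by
      have : a ∈ closure ({g} : Set X) := hg.def.symm ▸ subset_closure ha
      rwa [(h g hgK).closure_eq] at this
    rw [key a ha, key b hb]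
  refine ((NoetherianSpace.finite_irreducibleComponents (α := K)).biUnion fun Z hZ => (hc Z hZ).finite).subset ?_
  intro x hx
  exact Set.mem_biUnion (irreducibleComponent_mem_irreducibleComponents (⟨x, hx⟩ : K))
    ⟨⟨x, hx⟩, mem_irreducibleComponent, rfl⟩

variable {R : Type u} [CommRing R] [IsDomain R] [IsDiscreteValuationRing R]

/-- The closed fibre of a flat integral scheme with one-dimensional generic fibre has no chain of three points. -/
theorem dim_closed_fibre_le {X C : Scheme.{u}} [IsIntegral X] (f : X ⟶ Spec (CommRingCat.of R)) [Flat f]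
    [LocallyOfFiniteType f] (i : C ⟶ X) [IsOpenImmersion i] [Nonempty C]
    (hi : Set.range i = f ⁻¹' {(⊥ : PrimeSpectrum R)}) (hC : topologicalKrullDim C ≤ 1) :
    topologicalKrullDim ↥(f.fiber (IsLocalRing.closedPoint R)) ≤ 1 := by
  haveI : IsNoetherianRing (CommRingCat.of R) := inferInstanceAs (IsNoetherianRing R)
  haveI : LocallyOfFinitePresentation f := AlgStLib.locallyOfFinitePresentation_of_isLocallyNoetherian f inferInstance
  let ξ : X := genericPoint X
  have hξ : ∀ x : X, ξ ⤳ x := fun x => genericPoint_specializes x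
  have hfξ : f ξ = (⊥ : PrimeSpectrum R) := by
    obtain ⟨c⟩ := ‹Nonempty C›
    have h1 : f (i c) = (⊥ : PrimeSpectrum R) := by
      have : i c ∈ Set.range i := ⟨c, rfl⟩
      rwa [hi] at this
    have h2 := (hξ (i c)).map f.continuous
    rw [h1] at h2
    exact bot_unique (α := PrimeSpectrum R) ((PrimeSpectrum.le_iff_specializes _ _).2 h2)
  have hmax : FibDim.FibMax f ξ := FibDim.fibMax_of_maximal f fun z hz => (hz.antisymm (hξ z)).eq
  have key : ∀ w, FibDim.FibMax f w → FibDim.rd f w = FibDim.rd f ξ := fun w hw => by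
    have h1 := Triage.FibMaxFlat.fibreDimAt_eq_of_specializes f (hξ w) hw
    rw [FibDim.fibreDimAt_eq_rd f hw, FibDim.fibreDimAt_eq_rd f hmax] at h1
    exact_mod_cast h1.symm
  have hgen : topologicalKrullDim ↥(f.fiber (⊥ : PrimeSpectrum R)) ≤ 1 := by
    let e : C ≃ₜ ↥(f.fiber (⊥ : PrimeSpectrum R)) :=
      i.isOpenEmbedding.isEmbedding.toHomeomorph.trans ((Homeomorph.setCongr hi).trans (f.fiberHomeo _).symm)
    rwa [← e.isHomeomorph.topologicalKrullDim_eq]
  have hrd : ((FibDim.rd f ξ : ℕ∞) : WithBot ℕ∞) ≤ 1 := by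
    refine le_trans ?_ hgen
    rw [FibDim.topologicalKrullDim_fiber]
    exact le_iSup (fun v : ↥(f ⁻¹' {(⊥ : PrimeSpectrum R)}) => ((FibDim.rd f v.1 : ℕ∞) : WithBot ℕ∞)) ⟨ξ, hfξ⟩
  rw [FibDim.topologicalKrullDim_fiber]
  refine iSup_le fun v => le_trans ?_ hrd
  obtain ⟨w, -, -, hwmax, he⟩ := FibDim.exists_fibMax_generization f v.1
  have := (FibDim.rd_le_fibreDimAt f (specializes_refl v.1) rfl).trans he.le
  rwa [key w hwmax] at this

theorem isClosed_of_not_maximal {X : Over (Spec (CommRingCat.of R))}
    (hd : topologicalKrullDim ↥(X.hom.fiber (IsLocalRing.closedPoint R)) ≤ 1) {x θ : X.left}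
    (hx : x ∈ Models.specialFibreSet R X) (hθ : θ ∈ Models.specialFibreSet R X) (hs : θ ⤳ x) (hne : θ ≠ x) :
    IsClosed ({x} : Set X.left) := by
  refine closure_subset_iff_isClosed.1 fun w hw => ?_
  by_contra hne'
  have hxw : x ⤳ w := specializes_iff_mem_closure.2 hw
  have hwF : w ∈ Models.specialFibreSet R X := hxw.mem_closed (Models.isClosed_specialFibreSet R X) hx
  have hr : ∀ z : X.left, z ∈ Models.specialFibreSet R X →
      z ∈ Set.range (X.hom.fiberι (IsLocalRing.closedPoint R)) := fun z hz => by
    rw [Scheme.Hom.range_fiberι]; exact hz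
  exact ArInt.false_of_chain hd (X.hom.fiberι _) (X.hom.fiberι _).isEmbedding.isInducing
    (lt_of_le_not_ge (show w ≤ x from hxw) fun h => hne' (Specializes.antisymm h hxw).eq)
    (lt_of_le_not_ge (show x ≤ θ from hs) fun h => hne (hs.antisymm h).eq) (hr w hwF) (hr x hx) (hr θ hθ)

/-- The generic points of the components of the closed fibre of a normal model have discrete valuation rings as
local rings. -/
theorem isDVR_of_maximal {X : Over (Spec (CommRingCat.of R))} [IsIntegral X.left] [LocallyOfFiniteType X.hom]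
    (hn : Pi1.IsNormalScheme X.left) (hg : X.hom (genericPoint X.left) = (⊥ : PrimeSpectrum R)) {ξ : X.left}
    (hξ : ξ ∈ Models.specialFibreSet R X) (hmax : ∀ θ ∈ Models.specialFibreSet R X, θ ⤳ ξ → θ = ξ) :
    IsDiscreteValuationRing (X.left.presheaf.stalk ξ) := by
  haveI : IsLocallyNoetherian X.left := LocallyOfFiniteType.isLocallyNoetherian X.hom
  refine CDiv6.isDVR_of_coheight_one hn (le_antisymm (ArInt.coheight_le_one hξ hmax) ?_)
  have hlt : ξ < genericPoint X.left := lt_of_le_not_ge (genericPoint_specializes ξ) fun h => by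
    have he : ξ = genericPoint X.left := (Specializes.antisymm h (genericPoint_specializes ξ)).eq
    have h1 : X.hom ξ = IsLocalRing.closedPoint R := hξ
    rw [he, hg] at h1
    exact IsDiscreteValuationRing.not_a_field R (congrArg PrimeSpectrum.asIdeal h1).symm
  exact le_of_add_le_right (a := Order.coheight (genericPoint X.left)) (Order.coheight_add_one_le hlt)

theorem range_of_isPullback {C X : Scheme.{u}} {i : C ⟶ X} {fC : C ⟶ Spec (CommRingCat.of (FractionRing R))}
    {f : X ⟶ Spec (CommRingCat.of R)}
    (h : IsPullback i fC f (Spec.map (CommRingCat.ofHom (algebraMap R (FractionRing R))))) :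
    Set.range i = f ⁻¹' {(⊥ : PrimeSpectrum R)} := by
  rw [← h.isoPullback_hom_fst, Scheme.Hom.comp_base, TopCat.coe_comp, Set.range_comp,
    Set.range_eq_univ.2 h.isoPullback.hom.surjective, Set.image_univ, Scheme.Pullback.range_fst,
    NeronIsog.PtsExt.range_genPt]

/-- Morphisms of normal models from the centres of the valuations of the components. -/
theorem exists_morphism {C : Scheme.{u}} [IsIntegral C] (fC : C ⟶ Spec (CommRingCat.of (FractionRing R)))
    [IsProper fC] (hdim : topologicalKrullDim C ≤ 1)
    (XR WR : Over (Spec (CommRingCat.of R))) [IsIntegral XR.left] [IsIntegral WR.left]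
    (hXn : Pi1.IsNormalScheme XR.left) (hWn : Pi1.IsNormalScheme WR.left)
    [IsProper XR.hom] [Flat XR.hom] [IsProper WR.hom] [Flat WR.hom]
    (iX : C ⟶ XR.left) (hiX : IsPullback iX fC XR.hom (Spec.map (CommRingCat.ofHom (algebraMap R (FractionRing R)))))
    (iW : C ⟶ WR.left) (hiW : IsPullback iW fC WR.hom (Spec.map (CommRingCat.ofHom (algebraMap R (FractionRing R)))))
    (H : ∀ (ξ : WR.left) (hξ : iW.base (genericPoint C) ⤳ ξ),
      closure ({ξ} : Set WR.left) ∈ Models.fibreComponents R WR →
        ∃ (ξ' : XR.left) (hξ' : iX.base (genericPoint C) ⤳ ξ'),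
          closure ({ξ'} : Set XR.left) ∈ Models.fibreComponents R XR ∧
          Set.range ((iX.stalkMap (genericPoint C)).hom.comp (XR.left.presheaf.stalkSpecializes hξ').hom) =
            Set.range ((iW.stalkMap (genericPoint C)).hom.comp (WR.left.presheaf.stalkSpecializes hξ).hom)) :
    ∃ φ : XR ⟶ WR, iX ≫ φ.left = iW := by
  classical
  haveI : IsNoetherianRing (CommRingCat.of R) := inferInstanceAs (IsNoetherianRing R)
  haveI := ArInt.isOpenImmersion_genPt (R := R)
  haveI : IsOpenImmersion iX := MorphismProperty.of_isPullback hiX.flip inferInstance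
  haveI : IsOpenImmersion iW := MorphismProperty.of_isPullback hiW.flip inferInstance
  haveI : IsLocallyNoetherian XR.left := LocallyOfFiniteType.isLocallyNoetherian XR.hom
  haveI : IsLocallyNoetherian WR.left := LocallyOfFiniteType.isLocallyNoetherian WR.hom
  haveI : CompactSpace ↥WR.left := QuasiCompact.compactSpace_of_compactSpace WR.hom
  haveI : IsNoetherian WR.left := ⟨⟩
  have hrX := range_of_isPullback hiX
  have hrW := range_of_isPullback hiW
  have hdX := dim_closed_fibre_le XR.hom iX hrX hdim
  have hdW := dim_closed_fibre_le WR.hom iW hrW hdim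
  have hbot : ∀ {Y : Scheme.{u}} [IsIntegral Y] (j : C ⟶ Y) [IsOpenImmersion j]
      (g : Y ⟶ Spec (CommRingCat.of R)), Set.range j = g ⁻¹' {(⊥ : PrimeSpectrum R)} →
      g (genericPoint Y) = (⊥ : PrimeSpectrum R) := fun j _ g hj => by
    have h : j (genericPoint C) ∈ Set.range j := ⟨_, rfl⟩
    rw [hj, genericPoint_eq_of_isOpenImmersion j] at h
    exact h
  have hgX := hbot iX XR.hom hrX
  have hgW := hbot iW WR.hom hrW
  have hdvrX : ∀ ξ ∈ Models.specialFibreSet R XR, (∀ θ ∈ Models.specialFibreSet R XR, θ ⤳ ξ → θ = ξ) →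
      IsDiscreteValuationRing (XR.left.presheaf.stalk ξ) := fun ξ => isDVR_of_maximal hXn hgX
  have hdvrW : ∀ ξ ∈ Models.specialFibreSet R WR, (∀ θ ∈ Models.specialFibreSet R WR, θ ⤳ ξ → θ = ξ) →
      IsDiscreteValuationRing (WR.left.presheaf.stalk ξ) := fun ξ => isDVR_of_maximal hWn hgW
  -- the closure of the graph
  let c : C ⟶ pullback XR.hom WR.hom := pullback.lift iX iW (hiX.w.trans hiW.w.symm)
  haveI : IsLocallyNoetherian (pullback XR.hom WR.hom) :=
    LocallyOfFiniteType.isLocallyNoetherian (pullback.fst XR.hom WR.hom)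
  haveI : QuasiCompact (c ≫ pullback.fst XR.hom WR.hom) := by
    rw [pullback.lift_fst]; infer_instance
  haveI : QuasiCompact c := QuasiCompact.of_comp c (pullback.fst XR.hom WR.hom)
  obtain ⟨_, -⟩ := H23.P1Graph.image_integral c
  let Z := c.image
  haveI : IsIntegral Z := ‹IsIntegral c.ker.subscheme›
  let t : C ⟶ Z := c.toImage
  let p : Z ⟶ XR.left := c.imageι ≫ pullback.fst XR.hom WR.hom
  let q : Z ⟶ WR.left := c.imageι ≫ pullback.snd XR.hom WR.hom
  have htp : t ≫ p = iX := by
    rw [← Category.assoc, c.toImage_imageι, pullback.lift_fst]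
  have htq : t ≫ q = iW := by
    rw [← Category.assoc, c.toImage_imageι, pullback.lift_snd]
  have hpq : p ≫ XR.hom = q ≫ WR.hom := by
    rw [Category.assoc, Category.assoc, pullback.condition]
  haveI hpp : IsProper p := inferInstanceAs (IsProper (c.imageι ≫ pullback.fst XR.hom WR.hom))
  haveI hqp : IsProper q := inferInstanceAs (IsProper (c.imageι ≫ pullback.snd XR.hom WR.hom))
  haveI : IsDominant t := inferInstanceAs (IsDominant c.toImage)
  have hF : ∀ γ : Z, p γ ∈ Models.specialFibreSet R XR ↔ q γ ∈ Models.specialFibreSet R WR := fun γ => by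
    show XR.hom (p γ) = _ ↔ WR.hom (q γ) = _
    rw [← Scheme.Hom.comp_apply, hpq, Scheme.Hom.comp_apply]
  -- the generic fibre
  haveI hiso : IsIso (p ∣_ iX.opensRange) := isIso_restrict_of_section iX p t htp
  -- a point over a component of `WR` is over a component of `XR`
  have hkey : ∀ γ : Z, q γ ∈ Models.specialFibreSet R WR →
      (∀ θ ∈ Models.specialFibreSet R WR, θ ⤳ q γ → θ = q γ) →
      ∀ θ ∈ Models.specialFibreSet R XR, θ ⤳ p γ → θ = p γ := by
    intro γ hγ hmax
    haveI := hdvrW (q γ) hγ hmax
    obtain ⟨ξ', hξ', hcomp, hrange⟩ := H (q γ) (gen_specializes iW (q γ))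
      (ArInt.closure_mem_fibreComponents WR hγ hmax)
    obtain ⟨η', hη', -, hηmax⟩ := ArInt.exists_gen_component XR hcomp
    obtain rfl : η' = ξ' := ((show IsGenericPoint η' (closure {ξ'}) from hη').eq isGenericPoint_closure)
    obtain ⟨χ, hχq, hχγ, hχgen⟩ := exists_lift_generic t q iW htq γ inferInstance
    let spX := XR.left.presheaf.stalkSpecializes hξ'
    let spW := WR.left.presheaf.stalkSpecializes (gen_specializes iW (q γ))
    let rX : XR.left.presheaf.stalk η' →+* C.presheaf.stalk (genericPoint C) :=
      (iX.stalkMap (genericPoint C)).hom.comp spX.hom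
    let rW : WR.left.presheaf.stalk (q γ) →+* C.presheaf.stalk (genericPoint C) :=
      (iW.stalkMap (genericPoint C)).hom.comp spW.hom
    have hiXs : Function.Injective (iX.stalkMap (genericPoint C)) :=
      (ConcreteCategory.bijective_of_isIso (iX.stalkMap (genericPoint C))).1
    have hiWs : Function.Injective (iW.stalkMap (genericPoint C)) :=
      (ConcreteCategory.bijective_of_isIso (iW.stalkMap (genericPoint C))).1
    have hrXi : Function.Injective rX :=
      hiXs.comp (specializes_injective (genericPoint_eq_of_isOpenImmersion iX) hξ')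
    have hrWi : Function.Injective rW :=
      hiWs.comp (specializes_injective (genericPoint_eq_of_isOpenImmersion iW) _)
    let e : XR.left.presheaf.stalk η' ≃+* WR.left.presheaf.stalk (q γ) :=
      (RingEquiv.ofBijective rX.rangeRestrict
        ⟨fun a b hab => hrXi (congrArg Subtype.val hab), rX.rangeRestrict_surjective⟩).trans
      ((RingEquiv.subringCongr (show rX.range = rW.range from SetLike.coe_injective hrange)).trans
        (RingEquiv.ofBijective rW.rangeRestrict
          ⟨fun a b hab => hrWi (congrArg Subtype.val hab), rW.rangeRestrict_surjective⟩).symm)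
    have he : ∀ a, rW (e a) = rX a := fun a => by
      have h1 : rW.rangeRestrict (e a) = RingEquiv.subringCongr
          (show rX.range = rW.range from SetLike.coe_injective hrange) (rX.rangeRestrict a) :=
        (RingEquiv.ofBijective rW.rangeRestrict
          ⟨fun a b hab => hrWi (congrArg Subtype.val hab), rW.rangeRestrict_surjective⟩).apply_symm_apply _
      exact congrArg Subtype.val h1
    let G : XR.left.presheaf.stalk η' ⟶ WR.left.presheaf.stalk (q γ) := CommRingCat.ofHom e.toRingHom
    haveI : IsLocalHom G.hom := ⟨fun a ha => (MulEquiv.isUnit_map e).1 ha⟩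
    have hG : G ≫ spW ≫ iW.stalkMap (genericPoint C) = spX ≫ iX.stalkMap (genericPoint C) :=
      CommRingCat.hom_ext (RingHom.ext he)
    let ψ := Spec.map G ≫ XR.left.fromSpecStalk η'
    let ι := Spec.map spW
    have hψ : ι ≫ ψ = ι ≫ χ ≫ p := by
      rw [← cancel_epi (Spec.map (iW.stalkMap (genericPoint C)))]
      have hr : Spec.map (iW.stalkMap (genericPoint C)) ≫ ι ≫ χ ≫ p = C.fromSpecStalk (genericPoint C) ≫ iX := by
        rw [← Category.assoc ι, hχgen, ← Category.assoc, stalkMap_genArrow, Category.assoc, htp]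
      rw [hr, ← Scheme.SpecMap_stalkMap_fromSpecStalk, ← Scheme.SpecMap_stalkSpecializes_fromSpecStalk hξ',
        ← Spec.map_comp_assoc, ← Spec.map_comp_assoc, hG, ← Spec.map_comp_assoc]
    haveI : IsDominant ι := isDominant_specializes (genericPoint_eq_of_isOpenImmersion iW) _
    have hover : ψ ≫ XR.hom = (χ ≫ p) ≫ XR.hom :=
      ext_of_isDominant (ι := ι) (by rw [← Category.assoc, hψ, Category.assoc])
    have heq : ψ = χ ≫ p := ext_of_isDominant_of_isSeparated XR.hom hover ι hψ
    have hpγ : p γ = η' := by
      rw [← hχγ, ← Scheme.Hom.comp_apply, ← heq, Scheme.Hom.comp_apply,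
        show Spec.map G (IsLocalRing.closedPoint _) = IsLocalRing.closedPoint _ from
          IsLocalRing.comap_closedPoint G.hom, Scheme.fromSpecStalk_closedPoint]
    intro θ hθ hs
    rw [hpγ] at hs ⊢
    exact hηmax θ hθ hs
  -- finiteness of the fibres
  have hfib : ∀ x : XR.left, (p ⁻¹' {x}).Finite := by
    intro x
    by_cases hxF : x ∈ Models.specialFibreSet R XR
    · by_cases hmax : ∀ θ ∈ Models.specialFibreSet R XR, θ ⤳ x → θ = x
      · haveI := hdvrX x hxF hmax
        exact Set.Subsingleton.finite fun γ hγ γ' hγ' =>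
          eq_of_valuationRing t p iX htp x inferInstance hγ hγ'
      · push Not at hmax
        obtain ⟨θ, hθ, hθx, hne⟩ := hmax
        have hxc : IsClosed ({x} : Set XR.left) := isClosed_of_not_maximal hdX hxF hθ hθx hne
        let K := q '' (p ⁻¹' {x})
        have hK : IsClosed K := q.isClosedMap _ (hxc.preimage p.continuous)
        have hKc : ∀ w ∈ K, IsClosed ({w} : Set WR.left) := by
          rintro _ ⟨γ, hγ, rfl⟩
          have hqF : q γ ∈ Models.specialFibreSet R WR := (hF γ).1 (by rw [hγ]; exact hxF)
          by_cases hm : ∀ θ ∈ Models.specialFibreSet R WR, θ ⤳ q γ → θ = q γ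
          · have h1 := hkey γ hqF hm θ hθ (by rw [hγ]; exact hθx)
            exact absurd (h1.trans hγ) hne
          · push Not at hm
            obtain ⟨θ', hθ', hs', hne'⟩ := hm
            exact isClosed_of_not_maximal hdW hqF hθ' hs' hne'
        have hKfin : K.Finite := finite_of_closed_points hK hKc
        haveI : IsClosedImmersion (XR.left.fromSpecResidueField x) :=
          (isClosed_singleton_iff_isClosedImmersion).1 hxc
        let v := XR.left.fromSpecResidueField x ≫ XR.hom
        haveI : LocallyQuasiFinite v :=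
          LocallyQuasiFinite.of_finite_preimage_singleton v fun _ => Set.toFinite _
        let m : pullback v WR.hom ⟶ pullback XR.hom WR.hom :=
          pullback.map v WR.hom XR.hom WR.hom (XR.left.fromSpecResidueField x) (𝟙 _) (𝟙 _)
            (Category.comp_id _) (by rw [Category.comp_id, Category.id_comp])
        have hsub : p ⁻¹' {x} ⊆ ⋃ w ∈ K, c.imageι ⁻¹' (m '' (pullback.snd v WR.hom ⁻¹' {w})) := by
          intro γ hγ
          refine Set.mem_biUnion (⟨γ, hγ, rfl⟩ : q γ ∈ K) ?_
          have hm : c.imageι γ ∈ Set.range m := by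
            rw [Scheme.Pullback.range_map]
            exact ⟨by rw [Set.mem_preimage, Scheme.range_fromSpecResidueField]; exact hγ, ⟨_, rfl⟩⟩
          obtain ⟨z, hz⟩ := hm
          refine ⟨z, ?_, hz⟩
          show pullback.snd v WR.hom z = q γ
          rw [show q γ = pullback.snd XR.hom WR.hom (c.imageι γ) from rfl, ← hz, ← Scheme.Hom.comp_apply,
            pullback.lift_snd, Category.comp_id]
        refine (hKfin.biUnion fun w _ => ?_).subset hsub
        exact ((pullback.snd v WR.hom).finite_preimage_singleton w).image m |>.preimage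
          c.imageι.isEmbedding.injective.injOn
    · have hx : x ∈ iX.opensRange := by
        show x ∈ Set.range iX
        rw [hrX]
        exact (NeronIsog.PtsExt.eq_closedPoint_or_bot (XR.hom x)).resolve_left hxF
      exact Set.Subsingleton.finite fun γ hγ γ' hγ' => by
        have h1 : γ ∈ p ⁻¹ᵁ iX.opensRange := show p γ ∈ iX.opensRange from (show p γ = x from hγ) ▸ hx
        have h2 : γ' ∈ p ⁻¹ᵁ iX.opensRange := show p γ' ∈ iX.opensRange from (show p γ' = x from hγ') ▸ hx
        have := (p ∣_ iX.opensRange).homeomorph.injective (a₁ := ⟨γ, h1⟩) (a₂ := ⟨γ', h2⟩) (Subtype.ext (by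
          show ((p ∣_ iX.opensRange) ⟨γ, h1⟩).1 = ((p ∣_ iX.opensRange) ⟨γ', h2⟩).1
          have e1 : ∀ z : ↥(p ⁻¹ᵁ iX.opensRange), ((p ∣_ iX.opensRange) z).1 = p z.1 := fun z => by
            show iX.opensRange.ι ((p ∣_ iX.opensRange) z) = _
            rw [← Scheme.Hom.comp_apply, morphismRestrict_ι]
            rfl
          exact ((e1 ⟨γ, h1⟩).trans (show p γ = x from hγ)).trans
            ((e1 ⟨γ', h2⟩).trans (show p γ' = x from hγ')).symm))
        exact congrArg Subtype.val this
  haveI : LocallyQuasiFinite p := LocallyQuasiFinite.of_finite_preimage_singleton p hfib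
  haveI : IsFinite p := IsFinite.of_isProper_of_locallyQuasiFinite p
  have hpgen : p (genericPoint Z) = genericPoint XR.left := by
    have h2 : t (genericPoint C) = genericPoint Z := by
      refine ((genericPoint_spec C).image t.continuous).eq ?_
      rw [Set.image_univ, t.denseRange.closure_range]
      exact genericPoint_spec Z
    rw [← h2, ← Scheme.Hom.comp_apply, htp, genericPoint_eq_of_isOpenImmersion]
  haveI : IsIso p := by
    refine AlgSpDec.BiratNormal.isIso_of_birational p hXn ?_ ?_ ?_
    · rw [irreducibleComponents_eq_singleton]; exact Set.finite_singleton _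
    · rw [NormUnib.genericPoints_eq_singleton, NormUnib.genericPoints_eq_singleton, Set.bijOn_singleton]
      exact hpgen
    · intro z hz
      rw [NormUnib.genericPoints_eq_singleton] at hz
      obtain rfl := hz
      have h1 : genericPoint Z ∈ p ⁻¹ᵁ iX.opensRange := by
        show p (genericPoint Z) ∈ Set.range iX
        rw [hpgen, ← genericPoint_eq_of_isOpenImmersion iX]
        exact ⟨_, rfl⟩
      exact ((MorphismProperty.isomorphisms CommRingCat).arrow_mk_iso_iff
        (morphismRestrictStalkMap p iX.opensRange ⟨_, h1⟩)).1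
          (inferInstanceAs (IsIso ((p ∣_ iX.opensRange).stalkMap ⟨_, h1⟩)))
  refine ⟨Over.homMk (inv p ≫ q) ?_, ?_⟩
  · rw [Category.assoc, ← hpq, IsIso.inv_hom_id_assoc]
  · show iX ≫ inv p ≫ q = iW
    rw [← htp, Category.assoc, IsIso.hom_inv_id_assoc, htq]

end Groth.Agent.ModelMor
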